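import Groth.Agent.RatCompl.Alg
import Groth.Agent.RegPt.Immersion
import Groth.Agent.QCoh.Stalk
import Groth.Agent.QCoh.Localize
import Groth.Agent.AModX.Res

/-!
# Regular pairs on modules of sections, and bijectivity off a codimension two locus
-/

set_option autoImplicit false
set_option linter.style.haveILetI false
set_option linter.unusedSectionVars false
set_option backward.isDefEq.respectTransparency false
set_option backward.isDefEq.respectTransparency.types false

universe u v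

open CategoryTheory AlgebraicGeometry TopologicalSpace Opposite RingTheory.Sequence
open scoped TensorProduct Pointwise

namespace Groth.Agent.FreeDim1

section Alg

variable {R : Type u} [CommRing R] {M : Type u} [AddCommGroup M] [Module R M]

theorem wr_two_iff (a b : R) :
    IsWeaklyRegular M [a, b] ↔
      (∀ c : M, a • c = 0 → c = 0) ∧ ∀ c d : M, a • c = b • d → ∃ e, d = a • e := by
  rw [isWeaklyRegular_cons_iff, isWeaklyRegular_singleton_iff,
    isSMulRegular_iff_right_eq_zero_of_smul, isSMulRegular_iff_right_eq_zero_of_smul]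
  have hmk : ∀ d : M, (Submodule.Quotient.mk d : QuotSMulTop a M) = 0 ↔ ∃ e, d = a • e := fun d => by
    show (Submodule.Quotient.mk d : M ⧸ (a • ⊤ : Submodule R M)) = 0 ↔ _
    rw [Submodule.Quotient.mk_eq_zero, Submodule.mem_smul_pointwise_iff_exists]
    exact ⟨fun ⟨y, _, hy⟩ => ⟨y, hy.symm⟩, fun ⟨y, hy⟩ => ⟨y, Submodule.mem_top, hy.symm⟩⟩
  refine and_congr_right fun _ => ⟨fun h c d hcd => (hmk d).1 (h _ ?_), fun h x hx => ?_⟩
  · rw [← Submodule.Quotient.mk_smul, hmk]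
    exact ⟨c, hcd.symm⟩
  · obtain ⟨d, rfl⟩ := Submodule.Quotient.mk_surjective _ x
    rw [← Submodule.Quotient.mk_smul, hmk] at hx
    obtain ⟨c, hc⟩ := hx
    exact (hmk d).2 (h c d hc.symm)

theorem pair_pows {a b : R} (h : RatCompl.Pair a b) (n : ℕ) :
    IsWeaklyRegular R [a ^ n, b ^ n] :=
  (RatCompl.pair_iff_isWeaklyRegular _ _).1 ⟨fun _ hc => h.pow_reg n hc, fun _ hc => h.pow_dvd n n hc⟩

theorem wr_flat [Module.Flat R M] {rs : List R} (h : IsWeaklyRegular R rs) : IsWeaklyRegular M rs :=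
  ((TensorProduct.rid R M).isWeaklyRegular_congr rs).1 h.isWeaklyRegular_lTensor

/-- Bijectivity from bijectivity after inverting `a` and after inverting `b`. -/
theorem bijective_of_pows {P : Type u} [AddCommGroup P] [Module R P] (φ : P →ₗ[R] M) (a b : R)
    (hP : ∀ n, IsWeaklyRegular P [a ^ n, b ^ n]) (hM : ∀ n, IsWeaklyRegular M [a ^ n, b ^ n])
    (hker : ∀ p, φ p = 0 → ∃ n, a ^ n • p = 0)
    (ha : ∀ m, ∃ n p, φ p = a ^ n • m) (hb : ∀ m, ∃ n p, φ p = b ^ n • m) :
    Function.Bijective φ := by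
  have hinj : Function.Injective φ := (injective_iff_map_eq_zero φ).2 fun p hp => by
    obtain ⟨n, hn⟩ := hker p hp
    exact ((wr_two_iff _ _).1 (hP n)).1 p hn
  refine ⟨hinj, fun m => ?_⟩
  obtain ⟨n₁, u, hu⟩ := ha m
  obtain ⟨n₂, v, hv⟩ := hb m
  let n := n₁ + n₂
  have hu' : φ (a ^ n₂ • u) = a ^ n • m := by rw [map_smul, hu, smul_smul, ← pow_add, add_comm n₂]
  have hv' : φ (b ^ n₁ • v) = b ^ n • m := by rw [map_smul, hv, smul_smul, ← pow_add]
  have heq : a ^ n • (b ^ n₁ • v) = b ^ n • (a ^ n₂ • u) := hinj (by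
    rw [φ.map_smul (a ^ n), φ.map_smul (b ^ n), hu', hv', smul_comm])
  obtain ⟨w, hw⟩ := ((wr_two_iff _ _).1 (hP n)).2 _ _ heq
  refine ⟨w, sub_eq_zero.1 (((wr_two_iff _ _).1 (hM n)).1 _ ?_)⟩
  rw [smul_sub, ← φ.map_smul, ← hw, hu', sub_self]

end Alg

section Sheaf

variable {X : Scheme.{u}} {M : X.Modules}

/-- A pair regular on the sections over the affines inside an open is regular over the open. -/
theorem wr_sections {O : X.Opens} (a b : Γ(X, O))
    (h : ∀ (U : X.Opens) (hle : U ≤ O), IsAffineOpen U →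
      IsWeaklyRegular Γ(M, U) [AModX.resR hle a, AModX.resR hle b]) :
    IsWeaklyRegular Γ(M, O) [a, b] := by
  have htf : ∀ (V : X.Opens) (hV : V ≤ O) (c : Γ(M, V)), AModX.resR hV a • c = 0 → c = 0 := fun V hV c hc => by
    refine AModX.eq_of_locally _ _ fun p hp => ?_
    obtain ⟨_, ⟨U, hU, rfl⟩, hpU, hUV⟩ := X.isBasis_affineOpens.exists_subset_of_mem_open
      (show p ∈ (V : X.Opens) from hp) V.2
    refine ⟨U, hUV, hpU, ?_⟩
    rw [map_zero]
    refine ((wr_two_iff _ _).1 (h U (hUV.trans hV) hU)).1 _ ?_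
    rw [← AModX.resR_resR hV hUV, ← AModX.res_smul, hc, map_zero]
  refine (wr_two_iff _ _).2 ⟨fun c hc => htf O le_rfl c (by rw [AModX.resR_self]; exact hc), fun c d hcd => ?_⟩
  have hloc : ∀ p : O, ∃ (U : X.Opens) (hle : U ≤ O) (_ : p.1 ∈ U) (e : Γ(M, U)),
      AModX.res M hle d = AModX.resR hle a • e := fun p => by
    obtain ⟨_, ⟨U, hU, rfl⟩, hpU, hUO⟩ := X.isBasis_affineOpens.exists_subset_of_mem_open
      (show p.1 ∈ (O : X.Opens) from p.2) O.2
    obtain ⟨e, he⟩ := ((wr_two_iff _ _).1 (h U hUO hU)).2 (AModX.res M hUO c) (AModX.res M hUO d) (by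
      rw [← AModX.res_smul, ← AModX.res_smul, hcd])
    exact ⟨U, hUO, hpU, e, he⟩
  choose U hle hp e he using hloc
  obtain ⟨s, hs, -⟩ := AModX.existsUnique_glue (M := M) U hle (fun p hp' => ⟨⟨p, hp'⟩, hp ⟨p, hp'⟩⟩) e
    fun p q => by
      refine sub_eq_zero.1 (htf _ (inf_le_left.trans (hle p)) _ ?_)
      have h1 := congrArg (AModX.res M (inf_le_left : U p ⊓ U q ≤ U p)) (he p)
      have h2 := congrArg (AModX.res M (inf_le_right : U p ⊓ U q ≤ U q)) (he q)
      rw [AModX.res_res, AModX.res_smul, AModX.resR_resR] at h1 h2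
      rw [smul_sub, ← h1, ← h2, sub_self]
  refine ⟨s, AModX.eq_of_locally _ _ fun p hp' => ⟨U ⟨p, hp'⟩, hle _, hp _, ?_⟩⟩
  rw [AModX.res_smul, hs, he]

theorem bij_of_locally {N : X.Modules} (φ : M ⟶ N) {U : X.Opens}
    (h : ∀ p ∈ U, ∃ A : X.Opens, p ∈ A ∧ ∀ V : X.Opens, V ≤ A → Function.Bijective (φ.app V)) :
    Function.Bijective (φ.app U) := by
  have hinj : ∀ (W : X.Opens), W ≤ U → Function.Injective (φ.app W) := fun W hW x y hxy => by
    refine AModX.eq_of_locally _ _ fun p hp => ?_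
    obtain ⟨A, hpA, hA⟩ := h p (hW hp)
    refine ⟨W ⊓ A, inf_le_left, ⟨hp, hpA⟩, (hA _ inf_le_right).1 ?_⟩
    rw [AModX.app_res, AModX.app_res, hxy]
  refine ⟨hinj U le_rfl, fun z => ?_⟩
  have hloc : ∀ p : U, ∃ (A : X.Opens) (hA : A ≤ U) (_ : p.1 ∈ A) (a : Γ(M, A)),
      φ.app A a = AModX.res N hA z := fun p => by
    obtain ⟨A, hpA, hA⟩ := h p.1 p.2
    obtain ⟨a, ha⟩ := (hA (U ⊓ A) inf_le_right).2 (AModX.res N inf_le_left z)
    exact ⟨_, inf_le_left, ⟨p.2, hpA⟩, a, ha⟩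
  choose A hA hp a ha using hloc
  obtain ⟨c, hc, -⟩ := AModX.existsUnique_glue (M := M) A hA (fun p hp' => ⟨⟨p, hp'⟩, hp ⟨p, hp'⟩⟩) a
    fun p q => hinj _ (inf_le_left.trans (hA p)) (by
      rw [AModX.app_res, AModX.app_res, ha, ha, AModX.res_res, AModX.res_res])
  refine ⟨c, AModX.eq_of_locally _ _ fun p hp' => ⟨A ⟨p, hp'⟩, hA _, hp _, ?_⟩⟩
  rw [← AModX.app_res, hc, ha]

/-- A morphism of quasi-coherent modules which is bijective off the common zeroes of a regular pair. -/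
theorem bijective_app_of_pair {P : X.Modules} (hP : Coh.IsQCoh P) (hM : Coh.IsQCoh M) (φ : P ⟶ M)
    {U : X.Opens} (hU : IsAffineOpen U) (a b : Γ(X, U))
    (wP : ∀ n, IsWeaklyRegular Γ(P, U) [a ^ n, b ^ n]) (wM : ∀ n, IsWeaklyRegular Γ(M, U) [a ^ n, b ^ n])
    (ha : Function.Bijective (φ.app (X.basicOpen a))) (hb : Function.Bijective (φ.app (X.basicOpen b))) :
    Function.Bijective (φ.app U) := by
  let l : Γ(P, U) →ₗ[Γ(X, U)] Γ(M, U) :=
    { toFun := φ.app U
      map_add' := map_add _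
      map_smul' := fun r x => Scheme.Modules.Hom.app_smul φ r x }
  show Function.Bijective l
  have key : ∀ (c : Γ(X, U)), Function.Bijective (φ.app (X.basicOpen c)) →
      (∀ m, ∃ n p, l p = c ^ n • m) ∧ ∀ p, l p = 0 → ∃ n, c ^ n • p = 0 := by
    intro c hc
    refine ⟨fun m => ?_, fun p hp => ?_⟩
    · obtain ⟨q, hq⟩ := hc.2 (AModX.res M (X.basicOpen_le c) m)
      obtain ⟨n, t, ht⟩ := QCoh.exists_pow_smul_eq_map hP hU c q
      have h0 : AModX.res M (X.basicOpen_le c) (l t - c ^ n • m) = 0 := by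
        rw [map_sub, AModX.res_smul, map_pow, sub_eq_zero]
        show AModX.res M _ (φ.app U t) = _
        rw [← AModX.app_res, show AModX.res P (X.basicOpen_le c) t = AModX.resR (X.basicOpen_le c) c ^ n • q
          from ht, Scheme.Modules.Hom.app_smul, hq]
      obtain ⟨k, hk⟩ := QCoh.exists_pow_smul_eq_zero hM hU c _ h0
      refine ⟨k + n, c ^ k • t, ?_⟩
      rw [map_smul, pow_add, ← smul_smul]
      exact sub_eq_zero.1 ((smul_sub _ _ _).symm.trans hk)
    · refine QCoh.exists_pow_smul_eq_zero hP hU c p (hc.1 ?_)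
      show φ.app _ (AModX.res P (X.basicOpen_le c) p) = φ.app _ 0
      rw [AModX.app_res, show φ.app U p = 0 from hp, map_zero, map_zero]
  exact bijective_of_pows l a b wP wM (key a ha).2 (key a ha).1 (key b hb).1

end Sheaf

end Groth.Agent.FreeDim1
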