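import Groth.Agent.FreeDim1.Spread
import Groth.Agent.FreeDim1.Pair
import Groth.Agent.QCoh.PullbackBC
import Groth.Agent.QCoh.Qcqs
import Groth.Agent.H28.CechAug
import Groth.Agent.FTDescent.FP
import Groth.Prelude.Def_Pi1

/-!
# Modules free over the local schemes in codimension one come from the base
-/

set_option autoImplicit false
set_option linter.style.haveILetI false
set_option backward.isDefEq.respectTransparency false
set_option backward.isDefEq.respectTransparency.types false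

universe u

open CategoryTheory CategoryTheory.Limits AlgebraicGeometry TopologicalSpace Opposite RingTheory.Sequence

noncomputable section

namespace Groth.Agent.FreeDim1

variable {X S : Scheme.{u}}

theorem bijective_app_of_isIso_restrict {M N : X.Modules} (φ : M ⟶ N) (O : X.Opens)
    (h : IsIso ((Scheme.Modules.restrictFunctor O.ι).map φ)) (V : X.Opens) (hV : V ≤ O) :
    Function.Bijective (φ.app V) := by
  have key : ∀ W : X.Opens, O.ι ''ᵁ (O.ι ⁻¹ᵁ V) = W → Function.Bijective (φ.app W) := by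
    rintro _ rfl
    have := Scheme.Modules.Hom.isIso_iff_isIso_app.1 h (O.ι ⁻¹ᵁ V)
    exact ConcreteCategory.bijective_of_isIso (C := Ab.{u})
      (((Scheme.Modules.restrictFunctor O.ι).map φ).app (O.ι ⁻¹ᵁ V))
  exact key V (by rw [Scheme.Hom.image_preimage_eq_opensRange_inf, Scheme.Opens.opensRange_ι, inf_eq_right.2 hV])

theorem bijective_app_of_affine {M N : X.Modules} (φ : M ⟶ N) (O : X.Opens)
    (h : ∀ A : X.Opens, IsAffineOpen A → A ≤ O → Function.Bijective (φ.app A)) (V : X.Opens) (hV : V ≤ O) :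
    Function.Bijective (φ.app V) := by
  refine bijective_app_of_isIso_restrict φ O (H28.CechAug.isIso_of_affine _ fun A hA => ?_) V hV
  exact h (O.ι ''ᵁ A) (hA.image_of_isOpenImmersion O.ι) (O.ι.image_le_opensRange A |>.trans (le_of_eq O.opensRange_ι))

theorem surjective_of_bijective_app (f : X ⟶ S) [IsProper f]
    (hO : ∀ U : S.Opens, Function.Bijective (f.app U).hom) : Surjective f := by
  refine ⟨fun s => ?_⟩
  by_contra hs
  let W : S.Opens := ⟨(Set.range f.base)ᶜ, f.isClosedMap.isClosed_range.isOpen_compl⟩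
  have hsW : s ∈ W := fun ⟨x, hx⟩ => hs ⟨x, hx⟩
  have he : f ⁻¹ᵁ W = ⊥ := Opens.ext (Set.eq_empty_iff_forall_notMem.2 fun x hx => hx ⟨x, rfl⟩)
  haveI : Subsingleton Γ(X, f ⁻¹ᵁ W) := by
    rw [he]; exact CommRingCat.subsingleton_of_isTerminal X.sheaf.isTerminalOfEmpty
  haveI : Subsingleton Γ(S, W) := (hO W).1.subsingleton
  have h10 : (1 : S.presheaf.stalk s) = 0 := by
    rw [← map_one (S.presheaf.germ W s hsW).hom, Subsingleton.elim (1 : Γ(S, W)) 0, map_zero]
  exact one_ne_zero h10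

/-- An open of the base over which the counit is bijective on sections. -/
def Good (f : X ⟶ S) (E : X.Modules) (W : S.Opens) : Prop :=
  ∀ U : X.Opens, U ≤ f ⁻¹ᵁ W →
    Function.Bijective (((Scheme.Modules.pullbackPushforwardAdjunction f).counit.app E).app U)

variable (f : X ⟶ S) (E : X.Modules)

theorem good_of_locally {W : S.Opens} (h : ∀ s ∈ W, ∃ V : S.Opens, s ∈ V ∧ Good f E V) : Good f E W :=
  fun _ hU => bij_of_locally _ fun p hp => by
    obtain ⟨V, hV, hg⟩ := h (f p) (hU hp)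
    exact ⟨f ⁻¹ᵁ V, hV, hg⟩

/-- Good opens propagate across the common zeroes of a regular pair. -/
theorem good_of_pair [Flat f] [QuasiCompact f] [QuasiSeparated f] (hE : FlatMod.IsFinLocFree E) {W : S.Opens}
    (hW : IsAffineOpen W) (x y : Γ(S, W)) (hxy : RatCompl.Pair x y)
    (hx : Good f E (S.basicOpen x)) (hy : Good f E (S.basicOpen y)) :
    ∀ U : X.Opens, IsAffineOpen U → U ≤ f ⁻¹ᵁ W →
      Function.Bijective (((Scheme.Modules.pullbackPushforwardAdjunction f).counit.app E).app U) := by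
  intro U hU hle
  have hEq : Coh.IsQCoh E := QCoh.isQCoh_of_isFinLocFree hE
  have hflat : FlatMod.IsFlat E := (QCoh.isFlat_and_isFP_iff.2 hE).1
  let G := (Scheme.Modules.pushforward f).obj E
  have hG : Coh.IsQCoh G := QCoh.isQCoh_pushforward f hEq
  let P := (Scheme.Modules.pullback f).obj G
  have wE : ∀ (V : X.Opens) (hle : V ≤ f ⁻¹ᵁ W), IsAffineOpen V → ∀ n,
      IsWeaklyRegular Γ(E, V) [f.appLE W V hle x ^ n, f.appLE W V hle y ^ n] := fun V hle hV n => by
    haveI : Module.Flat Γ(X, V) Γ(E, V) := (QCoh.flat_sections_iff hEq hV).2 fun z _ => hflat z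
    refine wr_flat ?_
    have := RegPt.map_of_flat (f.appLE W V hle).hom (Flat.flat_appLE f hW hV hle) _ (pair_pows hxy n)
    simpa only [List.map_cons, List.map_nil, map_pow] using this
  have wG : ∀ n, IsWeaklyRegular Γ(G, W) [x ^ n, y ^ n] := fun n => by
    have h1 : IsWeaklyRegular Γ(E, f ⁻¹ᵁ W) [f.app W (x ^ n), f.app W (y ^ n)] :=
      wr_sections _ _ fun V hV hVa => by
        have := wE V hV hVa n
        rw [← map_pow, ← map_pow] at this
        exact this
    have h2 := (wr_two_iff (M := Γ(E, f ⁻¹ᵁ W)) _ _).1 h1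
    exact (wr_two_iff (M := Γ(G, W)) _ _).2 h2
  have wP : ∀ n, IsWeaklyRegular Γ(P, U) [f.appLE W U hle x ^ n, f.appLE W U hle y ^ n] := fun n => by
    letI : Algebra Γ(S, W) Γ(X, U) := (f.appLE W U hle).hom.toAlgebra
    letI : Module Γ(S, W) Γ(P, U) := Module.compHom _ (f.appLE W U hle).hom
    haveI : IsScalarTower Γ(S, W) Γ(X, U) Γ(P, U) := .of_algebraMap_smul fun _ _ => rfl
    haveI : Module.Flat Γ(S, W) Γ(X, U) := Flat.flat_appLE f hW hU hle
    let l : Γ(G, W) →ₗ[Γ(S, W)] Γ(P, U) :=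
      { toFun := QCoh.pullSec f G hle
        map_add' := QCoh.pullSec_add f G hle
        map_smul' := fun r m => QCoh.pullSec_smul f G hle r m }
    have := (wG n).of_flat_of_isBaseChange
      (QCoh.isBaseChange_pullback hW f hU hG hle (fun _ => rfl) l fun _ => rfl)
    rw [List.map_cons, List.map_cons, List.map_nil, map_pow, map_pow] at this
    exact this
  have hbo : ∀ c : Γ(S, W), X.basicOpen (f.appLE W U hle c) ≤ f ⁻¹ᵁ S.basicOpen c := fun c => by
    rw [Scheme.basicOpen_appLE]; exact inf_le_right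
  exact bijective_app_of_pair (P := P) (M := E) (QCoh.isQCoh_pullback f hG) hEq _ hU _ _ wP (wE U hle hU)
    (hx _ (hbo x)) (hy _ (hbo y))

theorem exists_iso [Flat f] [IsProper f] (hO : ∀ U : S.Opens, Function.Bijective (f.app U).hom)
    [IsNoetherian S] (hS : Pi1.IsNormalScheme S) (hE : FlatMod.IsFinLocFree E)
    (h1 : ∀ s : S, ringKrullDim (S.presheaf.stalk s) ≤ 1 → ∃ r : ℕ,
      Nonempty ((Scheme.Modules.pullback (pullback.fst f (S.fromSpecStalk s))).obj E ≅
        FlatMod.freeMod (pullback f (S.fromSpecStalk s)) r)) :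
    ∃ G : S.Modules, FlatMod.IsFinLocFree G ∧ Nonempty (E ≅ (Scheme.Modules.pullback f).obj G) := by
  let η := (Scheme.Modules.pullbackPushforwardAdjunction f).counit.app E
  -- the good points
  let Ω : S.Opens := ⟨{s | ∃ V : S.Opens, s ∈ V ∧ Good f E V}, isOpen_iff_forall_mem_open.2
    fun s ⟨V, hs, hV⟩ => ⟨V, fun t ht => ⟨V, ht, hV⟩, V.2, hs⟩⟩
  have hΩ : Good f E Ω := good_of_locally f E fun s hs => hs
  have hall : ∀ s : S, s ∈ Ω := by
    by_contra hne
    obtain ⟨T, hTf, hTc, hTi, hTe⟩ :=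
      NoetherianSpace.exists_finite_set_isClosed_irreducible (Ω.2.isClosed_compl)
    have hTne : T.Nonempty := by
      push Not at hne
      obtain ⟨s, hs⟩ := hne
      obtain ⟨t, ht, -⟩ := Set.mem_sUnion.1 (hTe ▸ (show s ∈ (Ω : Set S)ᶜ from hs))
      exact ⟨t, ht⟩
    obtain ⟨t, htmax⟩ := hTf.exists_maximal hTne
    have ht : t ∈ T := htmax.prop
    let s := (hTi t ht).genericPoint
    have hgen : IsGenericPoint s t := (hTc t ht).closure_eq ▸ (hTi t ht).isGenericPoint_genericPoint_closure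
    have hsZ : s ∉ Ω := fun hsΩ => (hTe ▸ Set.subset_sUnion_of_mem ht : t ⊆ (Ω : Set S)ᶜ) hgen.mem hsΩ
    apply hsZ
    by_cases hdim : ringKrullDim (S.presheaf.stalk s) ≤ 1
    · obtain ⟨r, ⟨e⟩⟩ := h1 s hdim
      obtain ⟨W, hsW, ⟨e'⟩⟩ := exists_nhd_free f E (QCoh.isQCoh_of_isFinLocFree hE)
        (QCoh.isFP_of_isFinLocFree hE) s r e
      exact ⟨W, hsW, bijective_app_of_isIso_restrict η _ (isIso_restrict_counit_of_free f hO W e')⟩
    · haveI := (hS s).1
      haveI := (hS s).2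
      obtain ⟨x₀, y₀, hx₀, hy₀, hp⟩ := RatCompl.exists_pair (R := S.presheaf.stalk s) (not_le.1 hdim)
      -- away from the other components
      let W₀ : S.Opens := ⟨(⋃₀ (T \ {t}))ᶜ,
        ((Set.sUnion_eq_biUnion (s := T \ {t})) ▸
          (hTf.subset Set.sdiff_subset).isClosed_biUnion fun u hu => hTc u hu.1).isOpen_compl⟩
      have hsW₀ : s ∈ W₀ := fun hs => by
        obtain ⟨u, ⟨hu, hut⟩, hsu⟩ := Set.mem_sUnion.1 hs
        exact hut (htmax.eq_of_ge hu ((hgen.mem_closed_set_iff (hTc u hu)).1 hsu))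
      have hZ : ∀ z, z ∈ W₀ → z ∉ Ω → s ⤳ z := fun z hzW hz => by
        obtain ⟨u, hu, hzu⟩ := Set.mem_sUnion.1 (hTe ▸ (show z ∈ (Ω : Set S)ᶜ from hz))
        obtain rfl : u = t := by_contra fun hut => hzW (Set.mem_sUnion.2 ⟨u, ⟨hu, hut⟩, hzu⟩)
        exact hgen.specializes hzu
      obtain ⟨O₁, hs₁, x₁, rfl⟩ := S.presheaf.germ_exist x₀
      obtain ⟨O₂, hs₂, y₁, rfl⟩ := S.presheaf.germ_exist y₀
      obtain ⟨W₁, hW₁, hsW₁, hW₁le⟩ := exists_isAffineOpen_mem_and_subset
        (show s ∈ O₁ ⊓ O₂ ⊓ W₀ from ⟨⟨hs₁, hs₂⟩, hsW₀⟩)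
      replace hW₁le : W₁ ≤ O₁ ⊓ O₂ ⊓ W₀ := hW₁le
      let x₂ : Γ(S, W₁) := AModX.resR (hW₁le.trans (inf_le_left.trans inf_le_left)) x₁
      let y₂ : Γ(S, W₁) := AModX.resR (hW₁le.trans (inf_le_left.trans inf_le_right)) y₁
      have ex : S.presheaf.germ W₁ s hsW₁ x₂ = S.presheaf.germ O₁ s hs₁ x₁ :=
        S.presheaf.germ_res_apply _ s hsW₁ x₁
      have ey : S.presheaf.germ W₁ s hsW₁ y₂ = S.presheaf.germ O₂ s hs₂ y₁ :=
        S.presheaf.germ_res_apply _ s hsW₁ y₁
      obtain ⟨g, hsg, hg⟩ := RegPt.exists_nhd_isRegAtOn hW₁ [x₂, y₂] s hsW₁ (by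
        show IsWeaklyRegular (S.presheaf.stalk s) [S.presheaf.germ W₁ s hsW₁ x₂, S.presheaf.germ W₁ s hsW₁ y₂]
        rw [ex, ey]
        exact (RatCompl.pair_iff_isWeaklyRegular _ _).1 hp)
      let x : Γ(S, S.basicOpen g) := AModX.resR (S.basicOpen_le g) x₂
      let y : Γ(S, S.basicOpen g) := AModX.resR (S.basicOpen_le g) y₂
      have hxy : RatCompl.Pair x y := (RatCompl.pair_iff_isWeaklyRegular _ _).2
        ((RegPt.isWeaklyRegular_iff_forall (hW₁.basicOpen g) _).2 fun z hz =>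
          (RegPt.isRegAtOn_res (S.basicOpen_le g) [x₂, y₂] z hz).2 (hg z (S.basicOpen_le g hz) hz))
      have hgood : ∀ (c : Γ(S, W₁)), S.presheaf.germ W₁ s hsW₁ c ∈ IsLocalRing.maximalIdeal _ →
          Good f E (S.basicOpen (AModX.resR (S.basicOpen_le g) c)) := fun c hc U hU =>
        hΩ U (hU.trans (f.preimage_mono fun z hz => by
          by_contra hzΩ
          rw [show S.basicOpen (AModX.resR (S.basicOpen_le g) c) = S.basicOpen g ⊓ S.basicOpen c from
            S.basicOpen_res c (homOfLE (S.basicOpen_le g)).op] at hz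
          have hs' : s ∈ S.basicOpen c := (hZ z (hW₁le (S.basicOpen_le g hz.1)).2 hzΩ).mem_open
            (S.basicOpen c).2 hz.2
          exact (IsLocalRing.mem_maximalIdeal _).1 hc ((S.mem_basicOpen _ s hsW₁).1 hs')))
      have hpair := good_of_pair f E hE (hW₁.basicOpen g) x y hxy (hgood x₂ (ex ▸ hx₀)) (hgood y₂ (ey ▸ hy₀))
      exact ⟨S.basicOpen g, hsg, bijective_app_of_affine η _ hpair⟩
  haveI : IsIso η := H28.CechAug.isIso_of_affine η fun U _ => hΩ U fun p _ => hall (f p)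
  let G := (Scheme.Modules.pushforward f).obj E
  haveI := surjective_of_bijective_app f hO
  refine ⟨G, FTDescent.isFinLocFree_of_pullback f (QCoh.isQCoh_pushforward f (QCoh.isQCoh_of_isFinLocFree hE))
    (H23.PullPush.isFinLocFree_of_iso (asIso η).symm hE), ⟨(asIso η).symm⟩⟩

end Groth.Agent.FreeDim1
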