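import Groth.Agent.Pi1Ext.SpreadLim
import Groth.Agent.MorLib.BaseChangeLim
import Groth.Agent.LimModLib.HomDescend
import Groth.Agent.LimModLib.Props
import Groth.Agent.LimModLib.FP
import Groth.Agent.KFlatLib.Perfect.LocFree
import Groth.Agent.H23.PullPush
import Groth.Agent.QCoh.LocFree
import Groth.Prelude.Def_FlatMod2

/-!
# Freeness over the local scheme of a point spreads to a neighbourhood of the point
-/

set_option autoImplicit false
set_option linter.style.haveILetI false
set_option backward.isDefEq.respectTransparency false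
set_option backward.isDefEq.respectTransparency.types false

universe u

open CategoryTheory CategoryTheory.Limits AlgebraicGeometry TopologicalSpace Opposite

noncomputable section

namespace Groth.Agent.FreeDim1

variable {X S : Scheme.{u}}

lemma isFinLocFree_freeMod (Y : Scheme.{u}) (n : ℕ) : FlatMod.IsFinLocFree (FlatMod.freeMod Y n) :=
  fun _ => ⟨⊤, n, trivial, ⟨QCoh.freeModRestrict _ n⟩⟩

/-- A module free after base change to the local scheme of a point is free over a neighbourhood. -/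
theorem exists_nhd_free (f : X ⟶ S) [QuasiCompact f] [QuasiSeparated f] (E : X.Modules)
    (hq : Coh.IsQCoh E) (hfp : CohB1.IsFP E) (s : S) (r : ℕ)
    (e : (Scheme.Modules.pullback (pullback.fst f (S.fromSpecStalk s))).obj E ≅
      FlatMod.freeMod (pullback f (S.fromSpecStalk s)) r) :
    ∃ W : S.Opens, s ∈ W ∧ Nonempty (E.restrict (f ⁻¹ᵁ W).ι ≅ FlatMod.freeMod (f ⁻¹ᵁ W : Scheme.{u}) r) := by
  let D := Pi1Ext.SpreadLim.specs S s
  let c : Cone D := Pi1Ext.SpreadLim.cone S s
  have hc : IsLimit c := Pi1Ext.SpreadLim.isLimit S s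
  obtain ⟨i⟩ : Nonempty (Pi1Ext.SpreadLim.Nbhd S s) := inferInstance
  let xi : pullback f (Pi1Ext.SpreadLim.toX S s i) ⟶ D.obj i := pullback.snd _ _
  haveI : CompactSpace ↥(pullback f (Pi1Ext.SpreadLim.toX S s i)) :=
    QuasiCompact.compactSpace_of_compactSpace xi
  haveI : QuasiSeparatedSpace ↥(pullback f (Pi1Ext.SpreadLim.toX S s i)) :=
    quasiSeparatedSpace_of_quasiSeparated xi
  let qX : pullback f (S.fromSpecStalk s) ⟶ pullback f (Pi1Ext.SpreadLim.toX S s i) :=
    pullback.lift (pullback.fst _ _) (pullback.snd _ _ ≫ c.π.app i) (by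
      rw [Category.assoc, Pi1Ext.SpreadLim.π_toX, pullback.condition])
  have hX : IsPullback qX (pullback.snd f (S.fromSpecStalk s)) xi (c.π.app i) := by
    refine IsPullback.of_right ?_ (pullback.lift_snd _ _ _) (IsPullback.of_hasPullback f _)
    rw [pullback.lift_fst, Pi1Ext.SpreadLim.π_toX]
    exact IsPullback.of_hasPullback f _
  let D' := MorLib.BC.diag D xi
  let c' := MorLib.BC.cone D xi (c := c) hX
  have hc' : IsLimit c' := MorLib.BC.isLimitCone D xi (c := c) hX hc
  let i' : Over i := Over.mk (𝟙 i)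
  let o : ∀ j : Over i, D'.obj j ⟶ X := fun j => (MorLib.BC.toStart D xi).app j ≫ pullback.fst _ _
  have ho : ∀ {j k : Over i} (g : j ⟶ k), D'.map g ≫ o k = o j := fun {j k} g =>
    (Category.assoc _ _ _).symm.trans
      (congrArg (· ≫ pullback.fst f (Pi1Ext.SpreadLim.toX S s i)) (MorLib.BC.map_fst D xi g))
  have hπ : c'.π.app i' ≫ o i' = pullback.fst f (S.fromSpecStalk s) :=
    (Category.assoc _ _ _).symm.trans
      ((congrArg (· ≫ pullback.fst f (Pi1Ext.SpreadLim.toX S s i)) (MorLib.BC.proj_fst D xi hX i')).trans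
        (pullback.lift_fst _ _ _))
  let F : (D'.obj i').Modules := (Scheme.Modules.pullback (o i')).obj E
  let R : (D'.obj i').Modules := FlatMod.freeMod (D'.obj i') r
  have hF : Coh.IsQCoh F := QCoh.isQCoh_pullback _ hq
  have hFfp : CohB1.IsFP F := LimModLib.isFP_pullback _ hq hfp
  have hRfp : CohB1.IsFP R := QCoh.isFP_of_isFinLocFree (isFinLocFree_freeMod _ r)
  have hR : Coh.IsQCoh R := QCoh.isQCoh_of_isFP hRfp
  let h : (Scheme.Modules.pullback (c'.π.app i')).obj F ≅ (Scheme.Modules.pullback (c'.π.app i')).obj R :=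
    (Scheme.Modules.pullbackComp _ _).app E ≪≫ (Scheme.Modules.pullbackCongr hπ).app E ≪≫ e ≪≫
      (KFlatLib.pullFreeIso (c'.π.app i') r).symm
  haveI : ∀ {j k : Over i} (g : j ⟶ k), IsAffineHom (D'.map g) := fun g => MorLib.BC.isAffineHom_map D xi g
  haveI : ∀ j : Over i, CompactSpace ↥(D'.obj j) := fun j => MorLib.BC.compactSpace_obj D xi j
  haveI : ∀ j : Over i, QuasiSeparatedSpace ↥(D'.obj j) := fun j => MorLib.BC.quasiSeparatedSpace_obj D xi j
  obtain ⟨j, hj, hjh⟩ := LimModLib.exists_hom_descend hc' hF hFfp hR h.hom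
  haveI hiso : IsIso ((Scheme.Modules.pullback (c'.π.app j.left)).map hj) := by
    let t := Scheme.Modules.pullbackComp (c'.π.app j.left) (D'.map j.hom) ≪≫
      Scheme.Modules.pullbackCongr (c'.w j.hom)
    haveI : IsIso ((t.app F).inv ≫ (Scheme.Modules.pullback (c'.π.app j.left)).map hj ≫ (t.app R).hom) := by
      rw [hjh]; infer_instance
    haveI := IsIso.of_isIso_comp_left (t.app F).inv
      ((Scheme.Modules.pullback (c'.π.app j.left)).map hj ≫ (t.app R).hom)
    exact IsIso.of_isIso_comp_right ((Scheme.Modules.pullback (c'.π.app j.left)).map hj) (t.app R).hom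
  obtain ⟨k, g, hk⟩ := (LimModLib.isIso_map_iff_eventually hc' (i := j.left) (QCoh.isQCoh_pullback _ hF)
    (LimModLib.isFT_of_isFP (QCoh.isQCoh_pullback _ hF) (LimModLib.isFP_pullback _ hF hFfp))
    (QCoh.isQCoh_pullback _ hR) (LimModLib.isFP_pullback _ hR hRfp) hj).1 hiso
  let a : (Scheme.Modules.pullback (o k)).obj E ≅ FlatMod.freeMod (D'.obj k) r :=
    (Scheme.Modules.pullbackCongr (show o k = D'.map g ≫ D'.map j.hom ≫ o i' by rw [ho, ho])).app E ≪≫
      ((Scheme.Modules.pullbackComp _ _).app E).symm ≪≫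
      (Scheme.Modules.pullback (D'.map g)).mapIso ((Scheme.Modules.pullbackComp _ _).app E).symm ≪≫
      @asIso _ _ _ _ _ hk ≪≫
      (Scheme.Modules.pullback (D'.map g)).mapIso (KFlatLib.pullFreeIso _ r) ≪≫ KFlatLib.pullFreeIso _ r
  have hP : IsPullback (o k) (pullback.snd xi (D.map k.hom)) f (Pi1Ext.SpreadLim.toX S s k.left) := by
    have := (IsPullback.of_hasPullback xi (D.map k.hom)).paste_horiz
      (IsPullback.of_hasPullback f (Pi1Ext.SpreadLim.toX S s i))
    rwa [Pi1Ext.SpreadLim.map_toX] at this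
  haveI : IsOpenImmersion (o k) := MorphismProperty.of_isPullback hP.flip inferInstance
  have hrange : Set.range (o k).base = ((f ⁻¹ᵁ k.left.1 : X.Opens) : Set X) := by
    rw [← hP.isoPullback_hom_fst, Scheme.Hom.comp_base]
    show Set.range ((pullback.fst f (Pi1Ext.SpreadLim.toX S s k.left)).base ∘ hP.isoPullback.hom.base) = _
    rw [Set.range_comp, Set.range_eq_univ.2 hP.isoPullback.hom.surjective, Set.image_univ,
      Scheme.Pullback.range_fst, Pi1Ext.SpreadLim.range_toX]
    rfl
  let U : X.Opens := f ⁻¹ᵁ k.left.1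
  let φ : (U : Scheme.{u}) ≅ D'.obj k := IsOpenImmersion.isoOfRangeEq U.ι (o k) (by
    rw [Scheme.Opens.range_ι]; exact hrange.symm)
  have hφ : U.ι = φ.hom ≫ o k := (IsOpenImmersion.isoOfRangeEq_hom_fac _ _ _).symm
  exact ⟨k.left.1, k.left.2.2, ⟨(Scheme.Modules.restrictFunctorIsoPullback U.ι).app E ≪≫
    (Scheme.Modules.pullbackCongr hφ).app E ≪≫ ((Scheme.Modules.pullbackComp _ _).app E).symm ≪≫
    (Scheme.Modules.pullback φ.hom).mapIso a ≪≫ KFlatLib.pullFreeIso φ.hom r⟩⟩

/-- Over such a neighbourhood the counit is an isomorphism. -/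
theorem isIso_restrict_counit_of_free (f : X ⟶ S) (hf : ∀ U : S.Opens, Function.Bijective (f.app U))
    {E : X.Modules} (W : S.Opens) {r : ℕ} (e : E.restrict (f ⁻¹ᵁ W).ι ≅ FlatMod.freeMod (f ⁻¹ᵁ W : Scheme.{u}) r) :
    IsIso ((Scheme.Modules.restrictFunctor (f ⁻¹ᵁ W).ι).map
      ((Scheme.Modules.pullbackPushforwardAdjunction f).counit.app E)) :=
  H23.PullPush.isIso_restrict_counit f W E ((NatTrans.isIso_app_iff_of_iso _
    (e ≪≫ (KFlatLib.pullFreeIso (f ∣_ W) r).symm)).2
      (H23.PullPush.isIso_counit_pullback_of_isFinLocFree (f ∣_ W)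
        (H23.PullPush.app_morphismRestrict_bijective f hf W) _ (isFinLocFree_freeMod _ r)))

end Groth.Agent.FreeDim1
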